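import Cfsg.Agent.Mrg.Omega.NOThreeL.Merge
import Cfsg.Agent.Mrg.Omega.NO3b.Union.Line
import Cfsg.Agent.Mrg.Omega.Spread.ElatOf
import Cfsg.Agent.Mrg.Omega.NOThreeL.Low.Defs
import Cfsg.Agent.Mrg.Omega.NOThreeL.NF.Final
import Cfsg.Agent.Mrg.Omega.NO3b.Bang

-- merged: Cfsg.Agent.Mrg.Omega.NOThreeL.NullNff
section

section


/-!
# NO-3L, the link (L) for lines which are not FF (#17634; text bb OMEGA helper184)

`S` a Sylow 2-subgroup, `P ∈ P*(S)`, `V_P = zl S P` not FF (`NotFF`), `V_P ≤ O₂(C_G(Z))`.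

* `root_of_par` : the w.c. frame (`Wc.Root S P`) for `L = P`;
* `ti_line` : two conjugates of `V_P` which meet nontrivially commute (THEOREM TI for the lines of the frame, which
  contain the conjugates of `V_P`; BETA is dead by THEOREM OFF, socket `Wc.StmtOff`);
* `comm_of_norm` : `X` a group with `U ⊴ X` elementary abelian, `O₂(X) ≤ C(U)`; a conjugate `V ≤ X` of `V_P` which
  is normalised by `U` centralises `U`;
* `comm_zl` : in particular for `U = U_H = zl S H`, `X = H ∈ L(S)`;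
* `nullF_nff` : `NullF S F` for a set `F` of members of `P*(S)` with `V_P` not FF.

Nothing on case (A), on `|Z|` or on nonlocality is used.
-/

set_option autoImplicit false

namespace Cfsg.Agent.Omega.NOThreeL.NullNff

open Subgroup Cfsg
open Cfsg.Agent.ZN (o2 zc zl)
open Cfsg.Agent.ZN.ChoiceBase (cj cj_mono cj_eq_of_mem_normalizer cj_cj mem_cj isPGroup_cj)
open Cfsg.Agent.Omega.MinPar Cfsg.Agent.Omega.Frame Cfsg.Agent.Omega.FrameNOFF
open Cfsg.Agent.Omega.Node.NO3L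
open Cfsg.Agent.Omega.NO3b (NoEmp.Lines)
open Cfsg.Agent.Omega.NO3b.EZero (NotFF cj_cent cj_eq_cj_iff)
open Cfsg.Agent.Omega.NO3b.Wc
open Cfsg.Agent.Omega.NOThreeL.MutLine (NullF)
open Cfsg.Agent.MinSimple.VModule (zl_le le_normalizer_zl zc_le_zl zc_le mem_zc zc_sq zc_comm o2_isPGroup
  le_normalizer_o2)
open scoped Pointwise

universe u

variable {G : Type u} [Group G] [Finite G] {S : Sylow 2 G}

/-- The w.c. frame for `L = P`. -/
theorem root_of_par (hc : IsCharacteristicTwoType G) {P : Subgroup G} (hP : IsParS (S : Subgroup G) P)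
    (hn : NotFF (zl (S : Subgroup G) P)) : Root S P where
  le := hP.isLoc.le
  comm := fun x hx => mem_centralizer_iff.2 fun y hy =>
    zc_comm _ _ (hP.isLoc.zl_le S hc hy) _ (hP.isLoc.zl_le S hc hx)
  sq := fun v hv => zc_sq _ v (hP.isLoc.zl_le S hc hv)
  nff := hn
  cs := by
    rw [hP.inf_centralizer S hc]
    exact le_normalizer_o2 P

/-- **TI for the lines.** -/
theorem ti_line (hc : IsCharacteristicTwoType G) (hoff : StmtOff G) (hS : zc (S : Subgroup G) ≠ ⊥)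
    {P : Subgroup G} (hP : IsParS (S : Subgroup G) P) (hn : NotFF (zl (S : Subgroup G) P))
    (hlow : zl (S : Subgroup G) P ≤ o2 (centralizer (zc (S : Subgroup G) : Set G))) {a b : G}
    (hI : cj a (zl (S : Subgroup G) P) ⊓ cj b (zl (S : Subgroup G) P) ≠ ⊥) :
    cj a (zl (S : Subgroup G) P) ≤ centralizer ((cj b (zl (S : Subgroup G) P) : Subgroup G) : Set G) := by
  have hr := root_of_par hc hP hn
  have hL := hr.lines' hc hoff hlow hS
  have h2 : IsPGroup 2 (VL (S : Subgroup G) P : Subgroup G) := hr.V_two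
  have h1 := hL.comm_of_inter (fun D hD hD1 => NOne.LemmaT.char2_centralizer hc (h2.to_le hD) hD1)
    (a := a) (b := b) (fun h0 => hI (le_bot_iff.1 ((inf_le_inf (cj_mono a hr.zl_le_V)
      (cj_mono b hr.zl_le_V)).trans h0.le)))
  exact (cj_mono a hr.zl_le_V).trans (h1.trans (centralizer_le (cj_mono b hr.zl_le_V)))

/-- A conjugate `V ≤ X` of `V_P` which is normalised by the elementary abelian normal subgroup `U` of `X`,
`O₂(X) ≤ C(U)`, centralises `U`. -/
theorem comm_of_norm (hc : IsCharacteristicTwoType G) (hoff : StmtOff G) (hS : zc (S : Subgroup G) ≠ ⊥)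
    {P : Subgroup G} (hP : IsParS (S : Subgroup G) P) (hn : NotFF (zl (S : Subgroup G) P))
    (hlow : zl (S : Subgroup G) P ≤ o2 (centralizer (zc (S : Subgroup G) : Set G))) {X U : Subgroup G}
    (hUc : ∀ a ∈ U, ∀ b ∈ U, a * b = b * a) (hU2 : ∀ a ∈ U, a ^ 2 = 1)
    (hXU : X ≤ normalizer (U : Set G)) (hoU : o2 X ≤ centralizer (U : Set G)) {g : G}
    (hV : cj g (zl (S : Subgroup G) P) ≤ X)
    (hUV : U ≤ normalizer ((cj g (zl (S : Subgroup G) P) : Subgroup G) : Set G)) :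
    cj g (zl (S : Subgroup G) P) ≤ centralizer (U : Set G) := by
  have hr := root_of_par hc hP hn
  by_contra hne
  have hVcc : cj g (zl (S : Subgroup G) P) ≤
      centralizer ((cj g (zl (S : Subgroup G) P) : Subgroup G) : Set G) := cj_cent hr.comm
  have hVc : ∀ a ∈ cj g (zl (S : Subgroup G) P), ∀ b ∈ cj g (zl (S : Subgroup G) P), a * b = b * a :=
    fun a ha b hb => ((mem_centralizer_iff.1 (hVcc ha)) b hb).symm
  have hV2 : ∀ a ∈ cj g (zl (S : Subgroup G) P), a ^ 2 = 1 := by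
    intro v hv
    have h1 := hr.sq _ (mem_cj.1 hv)
    have e : v ^ 2 = g * (g⁻¹ * v * g) ^ 2 * g⁻¹ := by rw [pow_two, pow_two]; group
    rw [e, h1]; group
  have hle := NO3b.NoEmp.le_o2_of (X := X) (D := ⊥) (U := U) hV hVc hV2 hUc hU2 hXU hUV bot_le bot_le
    (by rw [Subgroup.le_centralizer_iff]; exact bot_le) (fun h0 => hne (by
      intro v hv
      rw [mem_centralizer_iff]
      intro u hu
      have h1 := NO3b.NoEmp.comm_mem hUV (hV.trans hXU) hv hu
      have h2 := mem_bot.1 (h0 h1)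
      exact (commutatorElement_eq_one_iff_mul_comm.1 h2).symm))
    (inf_le_right.trans hoU) (hn.cj g) (fun a _ b _ hab => by
      rw [cj_cj, cj_cj] at hab ⊢
      by_contra h0
      exact hab (ti_line hc hoff hS hP hn hlow (fun h1 => h0 h1.le)))
  exact hne (hle.trans hoU)

/-- `V ≤ H ∈ L(S)` a conjugate of `V_P`, `U_H ≤ N(V)`: `[V, U_H] = 1`. -/
theorem comm_zl (hc : IsCharacteristicTwoType G) (hoff : StmtOff G) (hS : zc (S : Subgroup G) ≠ ⊥)
    {P : Subgroup G} (hP : IsParS (S : Subgroup G) P) (hn : NotFF (zl (S : Subgroup G) P))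
    (hlow : zl (S : Subgroup G) P ≤ o2 (centralizer (zc (S : Subgroup G) : Set G))) {H : Subgroup G}
    (hH : IsLoc (S : Subgroup G) H) {g : G} (hV : cj g (zl (S : Subgroup G) P) ≤ H)
    (hUV : zl (S : Subgroup G) H ≤ normalizer ((cj g (zl (S : Subgroup G) P) : Subgroup G) : Set G)) :
    cj g (zl (S : Subgroup G) P) ≤ centralizer (zl (S : Subgroup G) H : Set G) := by
  have h1 := hH.zl_le S hc
  refine comm_of_norm hc hoff hS hP hn hlow (fun a ha b hb => zc_comm _ _ (h1 ha) _ (h1 hb))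
    (fun a ha => zc_sq _ a (h1 ha)) (le_normalizer_zl _ _) ?_ hV hUV
  intro x hx
  rw [mem_centralizer_iff]
  intro u hu
  exact ((mem_zc.1 (h1 hu)).2.1 x hx).symm

/-- `[V_P, U_H] = 1` for every `H ∈ L(S)`. -/
theorem comm_self (hc : IsCharacteristicTwoType G) (hoff : StmtOff G) (hS : zc (S : Subgroup G) ≠ ⊥)
    {P : Subgroup G} (hP : IsParS (S : Subgroup G) P) (hn : NotFF (zl (S : Subgroup G) P))
    (hlow : zl (S : Subgroup G) P ≤ o2 (centralizer (zc (S : Subgroup G) : Set G))) {H : Subgroup G}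
    (hH : IsLoc (S : Subgroup G) H) :
    zl (S : Subgroup G) P ≤ centralizer (zl (S : Subgroup G) H : Set G) := by
  have hr := root_of_par hc hP hn
  have h1 : cj 1 (zl (S : Subgroup G) P) = zl (S : Subgroup G) P := ZN.ChoiceBase.cj_one _
  have h2 : zl (S : Subgroup G) H ≤ (S : Subgroup G) :=
    (hH.zl_le S hc |>.trans (zc_le _)).trans (hH.o2_le S)
  have h3 := comm_zl hc hoff hS hP hn hlow hH (g := 1) (by rw [h1]; exact hr.zl_le_S.trans hH.le)
    (by rw [h1]; exact h2.trans (hP.isLoc.le.trans (le_normalizer_zl _ _)))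
  rwa [h1] at h3

/-- **(L) for the lines which are not FF.** -/
theorem nullF_nff (hc : IsCharacteristicTwoType G) (hoff : StmtOff G) (hS : zc (S : Subgroup G) ≠ ⊥)
    {F : Set (Subgroup G)} (hF : F ⊆ PS (S : Subgroup G)) (hn : ∀ P ∈ F, NotFF (zl (S : Subgroup G) P))
    (hlow : ∀ P ∈ F, zl (S : Subgroup G) P ≤ o2 (CZ (S : Subgroup G))) : NullF (S : Subgroup G) F := by
  intro P H g hP hH h1 h2
  exact comm_zl hc hoff hS (hF hP) (hn P hP) (hlow P hP) hH.loc
    ((h1.trans (ZN.ChoiceSit.o2_le _)).trans hH.cz) h2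

end Cfsg.Agent.Omega.NOThreeL.NullNff

end

section


/-!
# THEOREM LOW (#19191, helper597), (nFF): the bad line `U` is FF

`Flat.Hyp V F`, `X = C_G(F)`, `W = W_F`, `E = V ∩ O₂(X)`, `N = C_W(E)`; `B` abelian, `F ≤ B ≤ W`, `X ≤ N(B)`,
`V ∩ B ≰ F`; `U ≤ V`, `U ≰ E`.

* `relIndex_le` : `|V ∩ B : F| ≤ |B : B ∩ N|`;
* `off` : `U ∩ F = 1`, `B ≤ N(U)`: `|U : C_U(B)| ≤ |B : C_B(U)|` and `[U, B] ≠ 1` (`B` offends on `U`);
* `le_EE_of_inf` : `U = V_P` not FF, `U ≤ O₂(C_G(Z))`, `U ∩ F ≠ 1`: `U ≤ E`;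
* `ff` : **(nFF)** `U = V_P ≰ E` is FF.
-/

set_option autoImplicit false

namespace Cfsg.Agent.Omega.NOThreeL.Low.NonFF

open Subgroup Cfsg
open Cfsg.Agent.ZN (o2 zc zl)
open Cfsg.Agent.Omega.MinPar Cfsg.Agent.Omega.Frame Cfsg.Agent.Omega.FrameNOFF
open Cfsg.Agent.Omega.NO3b.EZero (NotFF)
open Cfsg.Agent.Omega.NO3b.Wc
open Cfsg.Agent.Omega.NoFF.Basic (conj_conj conj_le_iff)
open Cfsg.Agent.Omega.NOThreeL.Pair (conj_eq_of_mem)
open Cfsg.Agent.Omega.NOne.Flat (Hyp EE WW NN BadX conj_eq_of_cent)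
open Cfsg.Agent.Omega.NOne.NearFF (c c_def Near)
open Cfsg.Agent.MinSimple.VModule (le_normalizer_zl)
open scoped Pointwise

universe u

variable {G : Type u} [Group G] [Finite G]

theorem rne (A B : Subgroup G) : A.relIndex B ≠ 0 := index_ne_zero_of_finite

section flat

variable {V F B : Subgroup G} (h : Hyp V F)
include h

omit [Finite G] h in
theorem inf_le_EE (hW : B ≤ WW V F) : V ⊓ B ≤ EE V F :=
  le_inf inf_le_left ((inf_le_right.trans hW).trans Hyp.W_le_R)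

/-- `|V ∩ B : F| ≤ |B : B ∩ N|` -/
theorem relIndex_le (hW : B ≤ WW V F) (hF : F ≤ B) (hX : centralizer (F : Set G) ≤ normalizer (B : Set G)) :
    F.relIndex (V ⊓ B) ≤ (NN V F).relIndex B := by
  obtain ⟨w, hw, hwE⟩ := h.exists_not_mem
  obtain ⟨x, hx, -, hn, -⟩ := h.exists_near hw hwE
  have hxF : MulAut.conj x • F = F := conj_eq_of_cent hx
  have h1 : F.relIndex (V ⊓ B) = F.relIndex (MulAut.conj x • (V ⊓ B)) := by
    have := NOne.Flat.Hyp.relIndex_conj x F (V ⊓ B)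
    rw [hxF] at this
    exact this.symm
  set K : Subgroup G := MulAut.conj x • (V ⊓ B) with hK
  have hKB : K ≤ B := by
    have h2 : MulAut.conj x • B = B := conj_eq_of_mem (hX hx)
    calc K ≤ MulAut.conj x • B := conj_le_iff.2 inf_le_right
      _ = B := h2
  have hKE : K ≤ MulAut.conj x • EE V F := conj_le_iff.2 (inf_le_EE hW)
  have hFK : F ≤ K := by
    rw [← hxF]
    exact conj_le_iff.2 (le_inf h.F_le_V hF)
  have h3 : NN V F ⊓ K = F := by
    refine le_antisymm ?_ (le_inf h.F_le_NN hFK)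
    intro s hs
    obtain ⟨hs1, hs2⟩ := mem_inf.1 hs
    exact hn.inj s (hKE hs2) (h.c_mem_F hw hs1)
  calc F.relIndex (V ⊓ B) = F.relIndex K := h1
    _ = (NN V F ⊓ K).relIndex K := by rw [h3]
    _ = (NN V F).relIndex K := inf_relIndex_right _ _
    _ ≤ (NN V F).relIndex B := relIndex_le_of_le_right hKB (rne _ _)

/-- there is an element of `B - N` -/
theorem exists_not_mem_NN (hW : B ≤ WW V F) (hF : F ≤ B)
    (hX : centralizer (F : Set G) ≤ normalizer (B : Set G)) (hI : ¬ V ⊓ B ≤ F) : ∃ b ∈ B, b ∉ NN V F := by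
  by_contra hcon
  push Not at hcon
  have h1 := relIndex_le h hW hF hX
  rw [relIndex_eq_one.2 hcon] at h1
  exact hI (relIndex_eq_one.1 (le_antisymm h1 (Nat.one_le_iff_ne_zero.2 (rne _ _))))

/-- `B` offends on `U`. -/
theorem off {U : Subgroup G} (hW : B ≤ WW V F) (hF : F ≤ B)
    (hX : centralizer (F : Set G) ≤ normalizer (B : Set G)) (hI : ¬ V ⊓ B ≤ F)
    (hUV : U ≤ V) (hUE : ¬ U ≤ EE V F) (hUF : U ⊓ F = ⊥) (hBU : B ≤ normalizer (U : Set G)) :
    ¬ B ≤ centralizer (U : Set G) ∧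
      (centralizer (B : Set G)).relIndex U ≤ (centralizer (U : Set G)).relIndex B := by
  obtain ⟨b, hb, hbN⟩ := exists_not_mem_NN h hW hF hX hI
  obtain ⟨w, hw, hwE⟩ := SetLike.not_le_iff_exists.1 hUE
  have hcU : ∀ u ∈ U, ∀ s ∈ B, c u s ∈ U := by
    intro u hu s hs
    have h1 := (mem_normalizer_iff.1 (hBU hs) u⁻¹).1 (inv_mem hu)
    have e : c u s = u * (s * u⁻¹ * s⁻¹) := by rw [c_def]; group
    rw [e]
    exact mul_mem hu h1
  have hcB : ∀ u ∈ U, ∀ s ∈ B, c u s ∈ B := by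
    intro u hu s hs
    have h1 := (mem_normalizer_iff.1 (hX (h.V_le_X (hUV hu))) s).1 hs
    have e : c u s = (u * s * u⁻¹) * s⁻¹ := by rw [c_def]
    rw [e]
    exact mul_mem h1 (inv_mem hs)
  have h0 : ∀ y ∈ U, y ∈ F → y = 1 := by
    intro y hy hyF
    have h1 : y ∈ U ⊓ F := mem_inf.2 ⟨hy, hyF⟩
    rw [hUF] at h1
    exact mem_bot.1 h1
  have hcomm : ∀ {u s : G}, c u s = 1 → u * s = s * u := by
    intro u s h1
    rw [c_def, mul_inv_eq_one, mul_inv_eq_iff_eq_mul] at h1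
    exact h1
  refine ⟨fun hcon => hbN ?_, ?_⟩
  · refine (h.c_mem_F_iff (hUV hw) hwE (hW hb)).1 ?_
    have h1 : w * b = b * w := mem_centralizer_iff.1 (hcon hb) w hw
    rw [c_def, h1, mul_inv_cancel_right, mul_inv_cancel]
    exact one_mem _
  · have s1 : (centralizer (B : Set G)).relIndex U ≤ (EE V F).relIndex U := by
      rw [← inf_relIndex_right (EE V F) U]
      refine relIndex_le_of_le_left ?_ (rne _ _)
      intro e he
      obtain ⟨he1, he2⟩ := mem_inf.1 he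
      rw [mem_centralizer_iff]
      intro s hs
      exact (hcomm (h0 _ (hcU e he2 s hs) (h.comm_EW he1 (hW hs)))).symm
    have s2 : (EE V F).relIndex U ≤ F.relIndex (U ⊓ B) := by
      refine NOne.Flat.Cos.le (φ := fun u => c u b) ⟨fun u hu => mem_inf.2 ⟨hcU u hu b hb, hcB u hu b hb⟩, ?_⟩
      intro u hu u' hu'
      have e : (c u b)⁻¹ * c u' b = c (u⁻¹ * u') b := by
        rw [h.c_mul_left (inv_mem (hUV hu)) (hUV hu') (hW hb), h.inv (hUV hu), h.inv (h.c_memV (hUV hu) (hW hb))]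
      change (c u b)⁻¹ * c u' b ∈ F ↔ _
      rw [e]
      constructor
      · intro h1
        by_contra h2
        exact hbN ((h.c_mem_F_iff (mul_mem (inv_mem (hUV hu)) (hUV hu')) h2 (hW hb)).1 h1)
      · intro h1
        exact h.comm_EW h1 (hW hb)
    have s3 : F.relIndex (U ⊓ B) ≤ F.relIndex (V ⊓ B) :=
      relIndex_le_of_le_right (inf_le_inf_right B hUV) (rne _ _)
    have s4 := relIndex_le h hW hF hX
    have s5 : (NN V F).relIndex B ≤ (centralizer (U : Set G)).relIndex B := by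
      rw [← inf_relIndex_right (centralizer (U : Set G)) B]
      refine relIndex_le_of_le_left ?_ (rne _ _)
      intro s hs
      obtain ⟨hs1, hs2⟩ := mem_inf.1 hs
      refine (h.c_mem_F_iff (hUV hw) hwE (hW hs2)).1 ?_
      have h1 : w * s = s * w := mem_centralizer_iff.1 hs1 w hw
      rw [c_def, h1, mul_inv_cancel_right, mul_inv_cancel]
      exact one_mem _
    exact s1.trans (s2.trans (s3.trans (s4.trans s5)))

/-- `U` is FF if `U ∩ F = 1`. -/
theorem ff_of_inf_eq_bot {U : Subgroup G} (hW : B ≤ WW V F) (hF : F ≤ B) (hBc : B ≤ centralizer (B : Set G))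
    (hX : centralizer (F : Set G) ≤ normalizer (B : Set G)) (hI : ¬ V ⊓ B ≤ F)
    (hUV : U ≤ V) (hUE : ¬ U ≤ EE V F) (hUF : U ⊓ F = ⊥) (hBU : B ≤ normalizer (U : Set G)) : ¬ NotFF U := by
  intro hn
  obtain ⟨h1, h2⟩ := off h hW hF hX hI hUV hUE hUF hBU
  refine absurd (hn B ?_ hBU ?_ ?_ h1) (not_lt.2 h2)
  · exact (ZN.isPGroup_o2 _).to_le (hW.trans Hyp.W_le_R)
  · intro a ha
    rw [pow_two, mem_centralizer_iff]
    intro u hu
    exact (Hyp.F_comm (h.sq_W (hW ha)) (h.V_le_X (hUV hu))).symm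
  · intro a ha b hb
    have e : a * b = b * a := (mem_centralizer_iff.1 (hBc ha) b hb).symm
    rw [e, mul_inv_cancel_right, mul_inv_cancel]
    exact one_mem _

end flat

variable {S : Sylow 2 G}

omit [Finite G] in
theorem stmtOff (G : Type u) [Group G] [Finite G] : StmtOff G := fun _ _ h _ hF hE => h.off_all hF hE

/-- `U = V_P` not FF, `U ≤ O₂(C_G(Z))`, `U ∩ F ≠ 1`: `U ≤ E`. -/
theorem le_EE_of_inf (hc : IsCharacteristicTwoType G) {P : Subgroup G} (hP : IsParS (S : Subgroup G) P)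
    (hlow : zl (S : Subgroup G) P ≤ o2 (CZ (S : Subgroup G))) (hn : NotFF (zl (S : Subgroup G) P))
    {V F : Subgroup G} (h : Hyp V F) (hUV : zl (S : Subgroup G) P ≤ V)
    (hUF : zl (S : Subgroup G) P ⊓ F ≠ ⊥) : zl (S : Subgroup G) P ≤ EE V F := by
  have hr := NullNff.root_of_par hc hP hn
  have h1 := hr.good hc (stmtOff G) hlow (F := zl (S : Subgroup G) P ⊓ F) (inf_le_left.trans hr.zl_le_V) hUF
  refine le_inf hUV ?_
  have h2 : centralizer (F : Set G) ≤ centralizer ((zl (S : Subgroup G) P ⊓ F : Subgroup G) : Set G) :=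
    centralizer_le inf_le_right
  exact (le_inf (hr.zl_le_V.trans h1) (hUV.trans h.V_le_X)).trans (o2_inf_le h2)

/-- **(nFF)** the bad line `U = V_P` is FF. -/
theorem ff (hc : IsCharacteristicTwoType G) {P : Subgroup G} (hP : IsParS (S : Subgroup G) P)
    (hlow : zl (S : Subgroup G) P ≤ o2 (CZ (S : Subgroup G))) {V F B : Subgroup G} (h : Hyp V F)
    (hW : B ≤ WW V F) (hF : F ≤ B) (hBc : B ≤ centralizer (B : Set G))
    (hX : centralizer (F : Set G) ≤ normalizer (B : Set G)) (hI : ¬ V ⊓ B ≤ F) (hBS : B ≤ (S : Subgroup G))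
    (hUV : zl (S : Subgroup G) P ≤ V) (hUE : ¬ zl (S : Subgroup G) P ≤ EE V F) :
    ¬ NotFF (zl (S : Subgroup G) P) := by
  intro hn
  by_cases hUF : zl (S : Subgroup G) P ⊓ F = ⊥
  · exact ff_of_inf_eq_bot h hW hF hBc hX hI hUV hUE hUF
      (hBS.trans (hP.le.trans (le_normalizer_zl _ _))) hn
  · exact hUE (le_EE_of_inf hc hP hlow hn h hUV hUF)

end Cfsg.Agent.Omega.NOThreeL.Low.NonFF

end

end

-- merged: Cfsg.Agent.Mrg.Omega.NOThreeL.Low.Dich
section

/-!
# THEOREM LOW (#19191, helper597), P5: the bad line `U = V_P` is FF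

* `exists_off` : a module `W` of `S` which is FF has an offender `A ≤ S`;
* `concl` : in NO-3L, `C_Z(P) = 1` for all `P ∈ P*(S)`, `V_P` FF: `V_P` is natural^k or `S_{2^m+1}`-type^k with `D = 1`,
  no over-offenders;
* `Sit.zc_inf`, `Sit.not_le` : `Z ∩ F = 1`, `V ∩ B ≰ F`; `Sit.not_notFF` : `V_P` is FF;
* `p5` : **P5**; `Sit.concl` : the type of `V_P`.
-/

set_option autoImplicit false

namespace Cfsg.Agent.Omega.NOThreeL.Low

open Subgroup Cfsg
open Cfsg.Agent.ZN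
open Cfsg.Agent.ZN.ChoiceBase (cj cj_eq_of_mem_normalizer)
open Cfsg.Agent.Omega.MinPar Cfsg.Agent.Omega.Frame Cfsg.Agent.Omega.FrameNOFF
open Cfsg.Agent.Omega.NO3b.EZero (NotFF)
open Cfsg.Agent.Omega.FFThm (ElemM OffM NoOverM ConclM NatKM SymKM)
open Cfsg.Agent.Omega.FrameFF (cv)
open Cfsg.Agent.Omega.NOThreeL.Basic (DataZ)
open Cfsg.Agent.Omega.NOne.Flat (Hyp EE WW NN)
open scoped Pointwise

universe u

section ff

variable {G : Type u} [Group G] [Finite G] {S : Sylow 2 G}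

/-- A module of `S` which is FF has an offender in `S`. -/
theorem exists_off {W : Subgroup G} (hSW : (S : Subgroup G) ≤ normalizer (W : Set G)) (h : ¬ NotFF W) :
    ∃ A : Subgroup G, A ≤ (S : Subgroup G) ∧ OffM W A := by
  unfold NO3b.EZero.NotFF at h
  push Not at h
  obtain ⟨A, h1, h2, h3, h4, h5, h6⟩ := h
  obtain ⟨n, hn, hnS⟩ := FFThm.exists_conj_le S hSW h1 h2
  refine ⟨cj n A, hnS, ?_⟩
  have h7 : OffM W A := ⟨⟨h3, h4⟩, h5, FFThm.relIndex_le_iff.2 h6⟩
  have h8 := NO3b.Bang.OffM_cj h7 n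
  rwa [cj_eq_of_mem_normalizer hn] at h8

/-- natural^k or `S_{2^m+1}`-type^k, `D = 1` -/
def Tp (S P : Subgroup G) : Prop :=
  (∃ (K : Type) (_ : Field K) (_ : Finite K) (_ : CharP K 2) (k : ℕ),
    0 < k ∧ Nonempty (NatKM K S P (zl S P) ⊥ k)) ∨
  ∃ k m : ℕ, 0 < k ∧ 2 ≤ m ∧ Nonempty (SymKM S P (zl S P) ⊥ k m)

/-- **The FF theorem for `V_P`.** -/
theorem concl (h : Ctx G) (D : DataZ (S : Subgroup G)) {P : Subgroup G} (hP : IsParS (S : Subgroup G) P)
    (hoff : ∃ A ≤ P, OffM (zl (S : Subgroup G) P) A) :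
    NoOverM (zl (S : Subgroup G) P) P ∧ Tp (S : Subgroup G) P := by
  obtain ⟨hno, hcon⟩ := StarEnd.stmtM G (S : Subgroup G) P (MinSimple.EmptyTI.syl_of_le hP.le)
    hP.toIsMinPar (hP.isLoc.char2 S h.char2) hoff
  refine ⟨hno, ?_⟩
  unfold ConclM at hcon
  rw [D.cv_eq h.char2 hP] at hcon
  exact hcon

end ff

section sit

variable {G : Type u} [Group G] [Finite G] {S : Sylow 2 G} {V F B P R : Subgroup G} {p : G}

theorem Sit.zc_inf (s : Sit S V F B P R p) : zc (S : Subgroup G) ⊓ F = ⊥ := by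
  have h := s.spp 1 1 1 P (one_mem _) rfl s.hP (one_mem _)
  rwa [one_mul, map_one, one_smul] at h

theorem Sit.zc_ne_bot (s : Sit S V F B P R p) : zc (S : Subgroup G) ≠ ⊥ :=
  MinSimple.Basic.zc_ne_bot S.isPGroup' (s.ctx.sylow_ne_bot S)

/-- `V ∩ B ≰ F` -/
theorem Sit.not_le (s : Sit S V F B P R p) : ¬ V ⊓ B ≤ F := by
  intro h
  refine s.zc_ne_bot (le_bot_iff.1 ?_)
  rw [← s.zc_inf]
  exact le_inf le_rfl (((MinSimple.VModule.zc_le_zl _ _).trans (le_inf s.RV s.RB)).trans h)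

/-- **(nFF)** -/
theorem Sit.not_notFF (s : Sit S V F B P R p) : ¬ NotFF (zl (S : Subgroup G) P) :=
  NonFF.ff s.ctx.char2 s.hP (s.D.low P s.hP) s.flat s.BW s.FB s.comm s.XB s.not_le s.BS s.UV s.bad

/-- `U = V_P` has an offender in `S`. -/
theorem Sit.exists_off (s : Sit S V F B P R p) :
    ∃ A : Subgroup G, A ≤ (S : Subgroup G) ∧ OffM (zl (S : Subgroup G) P) A :=
  Low.exists_off (s.hP.le.trans (MinSimple.VModule.le_normalizer_zl _ _)) s.not_notFF

/-- The type of the bad line. -/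
theorem Sit.concl (s : Sit S V F B P R p) :
    NoOverM (zl (S : Subgroup G) P) P ∧ Tp (S : Subgroup G) P := by
  obtain ⟨A, hA, ho⟩ := s.exists_off
  exact Low.concl s.ctx s.D s.hP ⟨A, hA.trans s.hP.le, ho⟩

end sit

/-- **P5**: `U` is an FF-module. -/
theorem p5 : StP5.{u} := by
  intro G _ _ S V F B P R p s
  obtain ⟨A, hA, ho⟩ := s.exists_off
  exact ⟨A, hA.trans s.hP.le, ho⟩

end Cfsg.Agent.Omega.NOThreeL.Low

end
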