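import Cfsg.Agent.Mrg.Omega.VP
import Cfsg.Agent.MinSimple.CaseD8
import Cfsg.Agent.Mrg.Omega.NOThreeL.Low.Defs
import Cfsg.Agent.Mrg.Omega.NOne.Flat.Off
import Cfsg.Agent.Mrg.Omega.NOThreeL.NF.Nat
import Cfsg.Agent.Mrg.Omega.Half.Basic

-- merged: Cfsg.Agent.Mrg.Omega.NOThreeL.Low.ITwo
section

/-!
# NO-3L, THEOREM LOW (#19191, helper597), step (I2)

`F ≤ I`, `V_R = ⟨Ω₁(Z(S))^R⟩ ≤ I`, no point `Z^p` (`p ∈ R`) of the line `V_R` meets `F`, and `C_Z(R) = 1`: then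
`|I : F| ≤ 2` is impossible.
-/

set_option autoImplicit false

namespace Cfsg.Agent.Omega.NOThreeL.Low.ITwo

open Subgroup Cfsg
open Cfsg.Agent.ZN (zc zl)
open Cfsg.Agent.MinSimple.VModule (zc_sq zc_le_zl le_normalizer_zl)

universe u

variable {G : Type u} [Group G]

/-- In a group `I` with a subgroup `F` of index at most 2, the product of two elements outside `F` is in `F`. -/
theorem mul_mem_of_relIndex {F I : Subgroup G} (h0 : F.relIndex I ≠ 0) (h2 : F.relIndex I ≤ 2) {s t : G}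
    (hs : s ∈ I) (ht : t ∈ I) (hsF : s ∉ F) (htF : t ∉ F) : s * t ∈ F := by
  have h3 : (F.subgroupOf I).index ≤ 2 := h2
  have h4 : (F.subgroupOf I).index ≠ 0 := h0
  have h5 : (F.subgroupOf I).index ≠ 1 := by
    intro h1
    rw [index_eq_one] at h1
    have h6 : (⟨s, hs⟩ : I) ∈ F.subgroupOf I := by rw [h1]; exact mem_top _
    exact hsF (mem_subgroupOf.1 h6)
  have h6 : (F.subgroupOf I).index = 2 := by omega
  have h7 := (mul_mem_iff_of_index_two h6 (a := ⟨s, hs⟩) (b := ⟨t, ht⟩)).2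
    ⟨fun h => absurd (mem_subgroupOf.1 h) hsF, fun h => absurd (mem_subgroupOf.1 h) htF⟩
  exact mem_subgroupOf.1 h7

/-- **(I2)** -/
theorem false_of_le_two [Finite G] {S : Sylow 2 G} {R F I : Subgroup G} (hSR : (S : Subgroup G) ≤ R)
    (hne : zc (S : Subgroup G) ≠ ⊥) (hcz : zc (S : Subgroup G) ⊓ centralizer (R : Set G) = ⊥)
    (hVS : zl (S : Subgroup G) R ≤ (S : Subgroup G)) (hI : zl (S : Subgroup G) R ≤ I)
    (h2 : F.relIndex I ≤ 2)
    (hSS : ∀ p ∈ R, ∀ z ∈ zc (S : Subgroup G), p * z * p⁻¹ ∈ F → z = 1) : False := by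
  classical
  have h0 : F.relIndex I ≠ 0 := by
    have : Finite (I ⧸ F.subgroupOf I) := inferInstance
    exact index_ne_zero_of_finite
  obtain ⟨z, hz, hz1⟩ : ∃ z ∈ zc (S : Subgroup G), z ≠ 1 := by
    rcases bot_or_exists_ne_one (zc (S : Subgroup G)) with h | h
    · exact absurd h hne
    · exact h
  let SS : Set G := {y | ∃ p ∈ R, y = p * z * p⁻¹}
  have hSSV : ∀ y ∈ SS, y ∈ zl (S : Subgroup G) R := by
    rintro y ⟨p, hp, rfl⟩
    exact (mem_normalizer_iff.1 (le_normalizer_zl _ _ hp) z).1 (zc_le_zl _ _ hz)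
  have hSSF : ∀ y ∈ SS, y ∉ F := by
    rintro y ⟨p, hp, rfl⟩ hF
    exact hz1 (hSS p hp z hz hF)
  have hSS2 : ∀ y ∈ SS, y * y = 1 := by
    rintro y ⟨p, hp, rfl⟩
    have h1 := zc_sq _ z hz
    rw [pow_two] at h1
    calc p * z * p⁻¹ * (p * z * p⁻¹) = p * (z * z) * p⁻¹ := by group
      _ = 1 := by rw [h1]; group
  let D : Subgroup G := closure {y | ∃ s ∈ SS, ∃ t ∈ SS, y = s * t}
  have hDF : D ≤ F := by
    rw [closure_le]
    rintro y ⟨s, hs, t, ht, rfl⟩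
    exact mul_mem_of_relIndex h0 h2 (hI (hSSV s hs)) (hI (hSSV t ht)) (hSSF s hs) (hSSF t ht)
  have hDS : D ≤ (S : Subgroup G) := by
    rw [closure_le]
    rintro y ⟨s, hs, t, ht, rfl⟩
    exact hVS (mul_mem (hSSV s hs) (hSSV t ht))
  have hDR : R ≤ normalizer (D : Set G) := by
    have key : ∀ r ∈ R, ∀ d ∈ D, r * d * r⁻¹ ∈ D := by
      intro r hr d hd
      induction hd using closure_induction with
      | mem y hy =>
        obtain ⟨s, ⟨p, hp, rfl⟩, t, ⟨p', hp', rfl⟩, rfl⟩ := hy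
        refine subset_closure ⟨_, ⟨r * p, mul_mem hr hp, rfl⟩, _, ⟨r * p', mul_mem hr hp', rfl⟩, ?_⟩
        group
      | one => simp
      | mul x y _ _ hx hy =>
        have e : r * (x * y) * r⁻¹ = r * x * r⁻¹ * (r * y * r⁻¹) := by group
        rw [e]
        exact mul_mem hx hy
      | inv x _ hx =>
        have e : r * x⁻¹ * r⁻¹ = (r * x * r⁻¹)⁻¹ := by group
        rw [e]
        exact inv_mem hx
    intro r hr
    rw [mem_normalizer_iff]
    intro d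
    refine ⟨key r hr d, fun h => ?_⟩
    have h1 := key r⁻¹ (inv_mem hr) _ h
    have e : r⁻¹ * (r * d * r⁻¹) * r⁻¹⁻¹ = d := by group
    rwa [e] at h1
  have hDne : D ≠ ⊥ := by
    intro hD
    have hzS : z ∈ SS := ⟨1, one_mem _, by simp⟩
    have h1 : ∀ p ∈ R, p * z * p⁻¹ = z := by
      intro p hp
      have hs : p * z * p⁻¹ ∈ SS := ⟨p, hp, rfl⟩
      have h3 : p * z * p⁻¹ * z ∈ D := subset_closure ⟨_, hs, _, hzS, rfl⟩
      rw [hD, mem_bot] at h3
      have h4 := hSS2 z hzS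
      calc p * z * p⁻¹ = p * z * p⁻¹ * (z * z) := by rw [h4, mul_one]
        _ = p * z * p⁻¹ * z * z := by group
        _ = z := by rw [h3, one_mul]
    have h2 : z ∈ zc (S : Subgroup G) ⊓ centralizer (R : Set G) := by
      refine ⟨hz, mem_centralizer_iff.2 fun p hp => ?_⟩
      have h3 := h1 p hp
      calc p * z = p * z * p⁻¹ * p := by group
        _ = z * p := by rw [h3]
    rw [hcz, mem_bot] at h2
    exact hz1 h2
  obtain ⟨c, hcD, hcz, hc1⟩ := Cfsg.Agent.MinSimple.CaseD8.exists_mem_zc S.isPGroup' hDS (hSR.trans hDR) hDne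
  exact hc1 (hSS 1 (one_mem _) c hcz (by simpa using hDF hcD))

end Cfsg.Agent.Omega.NOThreeL.Low.ITwo

end

-- merged: Cfsg.Agent.Mrg.Omega.NOThreeL.Low.SitTwo
section

section


/-!
# THEOREM LOW (#19191, helper597), P4: consequences of (S++) for `Sit`

For `s : Sit S V F B P R p` (`I = V ⊓ B`):

* `Sit.bh` : 876's `Key.BH V F B`; `Sit.F_le_I`, `Sit.I_le_E`;
* `Sit.Z_ne`, `Sit.pt_U`, `Sit.pt_R`, `Sit.Z_inf_F` : no point of `U` or of `V_R` meets `F`;
* `Sit.eq_bot_of_norm` : no nontrivial subgroup of `F` is normalised by `S`;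
* `Sit.two_lt` **(I2)** : `2 < |B : B ∩ N|`; `Sit.two_lt'` : `2 < |I : F|`;
* `Sit.false_of_few` **(T1) + (I2)** : no `w ∈ V - E` has at most one other `B`-conjugate.
-/

set_option autoImplicit false

namespace Cfsg.Agent.Omega.NOThreeL.Low

open Subgroup Cfsg Cfsg.Agent.ZN Cfsg.Agent.Omega.MinPar Cfsg.Agent.Omega.Frame Cfsg.Agent.Omega.FrameNOFF
open Cfsg.Agent.Omega.NOne.Flat (Hyp EE WW NN BadX)
open Cfsg.Agent.Omega.NoFF.Basic (mem_conj)
open scoped Pointwise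

universe u

variable {G : Type u} [Group G] [Finite G] {S : Sylow 2 G} {V F B P R : Subgroup G} {p : G}

namespace Sit

variable (s : Sit S V F B P R p)
include s

/-- 876's structure. -/
theorem bh : Key.BH V F B := ⟨s.flat, s.BW, s.FB, s.comm, s.XB⟩

theorem F_le_V : F ≤ V := s.flat.bad.le

theorem F_le_I : F ≤ V ⊓ B := le_inf s.F_le_V s.FB

theorem F_le_S : F ≤ (S : Subgroup G) := s.F_le_V.trans s.VS

theorem I_le_E : V ⊓ B ≤ EE V F := s.bh.I_le_E

theorem Z_ne : zc (S : Subgroup G) ≠ ⊥ := zc_ne_bot_of_par S s.hP.toIsPar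

/-- The points of the lines `V_Q`, `Q ∈ P*`, through `Z` do not meet `F`. -/
theorem pt {Q : Subgroup G} (hQ : IsParS (S : Subgroup G) Q) {q : G} (hq : q ∈ Q) :
    MulAut.conj q • zc (S : Subgroup G) ⊓ F = ⊥ := by
  have := s.spp 1 1 q Q (one_mem _) rfl hQ hq
  rwa [one_mul] at this

/-- element form of `pt` -/
theorem pt' {Q : Subgroup G} (hQ : IsParS (S : Subgroup G) Q) {q : G} (hq : q ∈ Q) {z : G}
    (hz : z ∈ zc (S : Subgroup G)) (hF : q * z * q⁻¹ ∈ F) : z = 1 := by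
  have h1 : q * z * q⁻¹ ∈ MulAut.conj q • zc (S : Subgroup G) ⊓ F := mem_inf.2 ⟨mem_conj.2 (by simpa [mul_assoc] using hz), hF⟩
  rw [s.pt hQ hq, mem_bot] at h1
  have h2 : z = q⁻¹ * (q * z * q⁻¹) * q := by group
  rw [h2, h1]
  group

/-- `Z ∩ F = 1` -/
theorem Z_inf_F : zc (S : Subgroup G) ⊓ F = ⊥ := by
  have := s.pt s.hP (one_mem _)
  rwa [map_one, one_smul] at this

/-- **No nontrivial subgroup of `F` is normalised by `S`.** -/
theorem eq_bot_of_norm {D : Subgroup G} (hDF : D ≤ F) (hn : (S : Subgroup G) ≤ normalizer (D : Set G)) :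
    D = ⊥ := by
  by_contra hD
  obtain ⟨c, hc, hcz, hc1⟩ := Cfsg.Agent.MinSimple.CaseD8.exists_mem_zc S.isPGroup' (hDF.trans s.F_le_S) hn hD
  have h1 : c ∈ zc (S : Subgroup G) ⊓ F := ⟨hcz, hDF hc⟩
  rw [s.Z_inf_F, mem_bot] at h1
  exact hc1 h1

/-- **(I2)**: `2 < |I : F|` -/
theorem two_lt' : 2 < F.relIndex (V ⊓ B) := by
  by_contra h2
  exact ITwo.false_of_le_two (R := R) (F := F) (I := V ⊓ B) s.hR.le s.Z_ne (s.D.cz R s.hR) (s.RV.trans s.VS)
    (le_inf s.RV s.RB) (not_lt.1 h2) fun q hq z hz hF => s.pt' s.hR hq hz hF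

/-- **(I2)**: `2 < |B : B ∩ N|` -/
theorem two_lt : 2 < (NN V F).relIndex B := by
  rw [s.bh.relIndex_B]
  exact s.two_lt'

/-- **(T1) + (I2)**: no `w ∈ V - E` has at most one other `B`-conjugate. -/
theorem false_of_few {w : G} (hw : w ∈ V) (hwE : w ∉ EE V F)
    (h1 : ∀ b ∈ B, ∀ b' ∈ B, b * w * b⁻¹ ≠ w → b' * w * b'⁻¹ ≠ w → b * w * b⁻¹ = b' * w * b'⁻¹) : False :=
  absurd s.two_lt' (not_lt.2 (s.bh.relIndex_le_two hw hwE h1))

end Sit

end Cfsg.Agent.Omega.NOThreeL.Low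

end

section


/-!
# THEOREM LOW of NO-3L (#19191, helper597), P6: the bad line is not of symmetric type

`quad` : `[V, B, B] = 1`; `p6 : StP6`.
-/

set_option autoImplicit false
set_option maxHeartbeats 400000

namespace Cfsg.Agent.Omega.NOThreeL.Low.PSix

open Subgroup Cfsg
open Cfsg.Agent.ZN
open Cfsg.Agent.Omega.FFThm (OffM NatKM SymKM)
open Cfsg.Agent.Omega.NOne.Flat (Hyp EE WW NN)
open Cfsg.Agent.Omega.NOne.NearFF (c)

universe u

variable {G : Type u} [Group G] [Finite G] {S : Sylow 2 G} {V F B P R : Subgroup G} {p : G}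

/-- `[V, B, B] = 1` -/
theorem quad (s : Sit S V F B P R p) {w b b' : G} (hw : w ∈ V) (hb : b ∈ B) (hb' : b' ∈ B) :
    b' * (b * w * b⁻¹ * w⁻¹) = b * w * b⁻¹ * w⁻¹ * b' := by
  have h1 := s.bh.quad hw hb hb'
  have h2 : (c w b)⁻¹ = b * w * b⁻¹ * w⁻¹ := by rw [c]; group
  rw [← h2]
  calc b' * (c w b)⁻¹ = (c w b)⁻¹ * (c w b * b') * (c w b)⁻¹ := by group
    _ = (c w b)⁻¹ * (b' * c w b) * (c w b)⁻¹ := by rw [h1]
    _ = (c w b)⁻¹ * b' := by group

/-- **P6**: `U` is not of symmetric type. -/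
theorem p6 : StP6.{u} := by
  intro G _ _ S V F B P R p s k m _ _ M
  refine s.bad (SymCase.le_of_t1 M.toSymK s.hP.le (MinSimple.VModule.le_normalizer_zl _ _) s.BS ?_ ?_)
  · intro w hw b hb b' hb'
    exact quad s (s.UV hw) hb hb'
  · intro w hw hwE h1
    exact s.false_of_few (s.UV hw) hwE h1

end Cfsg.Agent.Omega.NOThreeL.Low.PSix

end

section


/-!
# THEOREM LOW (#19191, helper597), P7 : the natural situation

* `two_lt` : (I2), `2 < |B : B ∩ N|`; `nc` : the same as "no `w ∈ U - E` has only one other conjugate" (T1);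
* `p7a` : (T3), (T4): `B` acts on every bad block as a subgroup of the root group;
* `p7b` : (T5).
-/

set_option autoImplicit false
set_option linter.unusedSectionVars false

namespace Cfsg.Agent.Omega.NOThreeL.Low.PSeven

open Subgroup Cfsg Cfsg.Agent.ZN Cfsg.Agent.Omega.MinPar Cfsg.Agent.Omega.Frame
open Cfsg.Agent.Omega.NOne.Flat (Hyp EE WW NN BadX)
open Cfsg.Agent.Omega.NOne.NearFF (c)
open Cfsg.Agent.Omega.FFThm (NatK NatKM SymKM ActsSL)
open Cfsg.Agent.Omega.Half (Amb amb_of_loc)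
open Cfsg.Agent.Omega.Half.NatA (inj eq_one e_one e_inv Mv)
open Cfsg.Agent.Omega.NO1.NSix
open Cfsg.Agent.Omega.NatPair (ap ext2 ap_zero' ap_one' exists_ap ap_one)
open Cfsg.Agent.Lib.SL2Mat
open Cfsg.Agent.MinSimple.VModule (zc_le_zl)
open scoped Pointwise

universe u

section sit

variable {G : Type u} [Group G] [Finite G] {S : Sylow 2 G} {V F B P R : Subgroup G} {p : G}

theorem mem_conj_of {x y : G} {A : Subgroup G} (h : y ∈ A) : x * y * x⁻¹ ∈ MulAut.conj x • A :=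
  smul_mem_pointwise_smul y (MulAut.conj x) A h

/-- `BH` of `Low/Key`. -/
theorem bh (s : Sit S V F B P R p) : Key.BH V F B :=
  { s.flat with le_W := s.BW, F_le := s.FB, abel := s.comm, norm := s.XB }

theorem amb (s : Sit S V F B P R p) : Amb (S : Subgroup G) P (zl (S : Subgroup G) P) :=
  amb_of_loc s.ctx.char2 S s.hP.toIsPar.isLoc

/-- **(I2)** -/
theorem two_lt (s : Sit S V F B P R p) : 2 < (NN V F).relIndex B := by
  by_contra hle
  push Not at hle
  refine ITwo.false_of_le_two (S := S) (R := R) (F := F) (I := V ⊓ B) s.hR.toIsPar.isLoc.le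
    (MinSimple.Basic.zc_ne_bot S.isPGroup' (s.ctx.sylow_ne_bot S)) (s.D.cz R s.hR) (s.RV.trans s.VS)
    (le_inf s.RV s.RB) ?_ fun r hr z hz hF => ?_
  · rw [← (bh s).relIndex_B]
    exact hle
  · have h1 := s.spp 1 1 r R (one_mem P) rfl s.hR hr
    rw [one_mul] at h1
    have h2 : r * z * r⁻¹ ∈ MulAut.conj r • zc (S : Subgroup G) ⊓ F := mem_inf.2 ⟨mem_conj_of hz, hF⟩
    rw [h1, mem_bot] at h2
    calc z = r⁻¹ * (r * z * r⁻¹) * r := by group
      _ = 1 := by rw [h2]; group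

/-- `B` does not centralise `w ∈ V - E`. -/
theorem exists_moved (s : Sit S V F B P R p) {w : G} (hw : w ∈ V) (hwE : w ∉ EE V F) :
    ∃ b ∈ B, c w b ∉ F := by
  by_contra hall
  push Not at hall
  have h1 : B ≤ NN V F := fun b hb => (bh s).mem_NN_of_c hw hwE hb (hall b hb)
  have h2 := two_lt s
  rw [relIndex_eq_one.2 h1] at h2
  omega

theorem qb (s : Sit S V F B P R p) : Nat.QB (S : Subgroup G) (zl (S : Subgroup G) P) B (EE V F) where
  BS := s.BS
  ab := fun _ hb _ hc => (bh s).B_comm hb hc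
  sq := fun b hb => by rw [← pow_two]; exact s.sq b hb
  quad := fun v hv b hb c' hc => by
    have h1 := (bh s).quad (s.UV hv) hb hc
    have h2 : b * v * b⁻¹ * v⁻¹ = (c v b)⁻¹ := by rw [c]; group
    rw [h2]
    calc c' * (c v b)⁻¹ = (c v b)⁻¹ * (c v b * c') * (c v b)⁻¹ := by group
      _ = (c v b)⁻¹ * (c' * c v b) * (c v b)⁻¹ := by rw [h1]
      _ = (c v b)⁻¹ * c' := by group
  t1 := fun w hw hwE hall => by
    have h1 := (bh s).relIndex_le_two (s.UV hw) hwE hall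
    rw [← (bh s).relIndex_B] at h1
    exact absurd (two_lt s) (not_lt.2 h1)

end sit

/-! ### P7a -/

section pa

variable {G : Type u} [Group G] [Finite G] {S : Sylow 2 G} {V F B P R : Subgroup G} {p : G}
variable {K : Type} [Field K] {k : ℕ} (N : NatKM K (S : Subgroup G) P (zl (S : Subgroup G) P) ⊥ k)

theorem blk_em {i : Fin k} {v : G} (hv : Blk N i v) : em N.toNatK i (N.e v i) = v := em_eq N.toNatK hv.1 hv.2

theorem em_blk (i : Fin k) (x : Fin 2 → K) : Blk N i (em N.toNatK i x) :=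
  ⟨em_mem N.toNatK i x, fun _ hj => e_em_ne N.toNatK hj x⟩

end pa

/-- **P7a** -/
theorem p7a : StP7a.{u} := by
  intro G _ _ S V F B P R p s K _ _ _ k N i hbad b hb
  have hA := amb s
  have hQ := qb s
  have hi : Nat.Bad N.toNatK (EE V F) i := by
    obtain ⟨w, hw, hwE⟩ := hbad
    refine ⟨N.e w i, ?_⟩
    rwa [blk_em N hw]
  obtain ⟨x, hx⟩ := hQ.exists_up hA hi hb
  refine ⟨x, fun v hv => ⟨⟨hA.conj_mem (hQ.BP hA hb) hv.1, fun j hj => ?_⟩, hx v hv.1⟩⟩
  obtain ⟨σ, hσ⟩ := N.perm b (hQ.BP hA hb)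
  have hσi : σ i = i := hQ.fix hA hi hb hσ
  have h1 := (hσ v hv.1 (σ.symm j)).2 (hv.2 _ fun h2 => hj (by rw [← hσi, ← h2, σ.apply_symm_apply]))
  rwa [σ.apply_symm_apply] at h1

/-! ### P7b -/

section zz

variable {G : Type u} [Group G] [Finite G] {S : Sylow 2 G} {V F B P R : Subgroup G} {p : G}
variable {K : Type} [Field K] {k : ℕ} (N : NatKM K (S : Subgroup G) P (zl (S : Subgroup G) P) ⊥ k)

/-- elements of `Z` have coordinates in the lines -/
theorem z_one {z : G} (hz : z ∈ zc (S : Subgroup G)) (j : Fin k) : N.e z j 1 = 0 := by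
  have hzV := zc_le_zl (S : Subgroup G) P hz
  obtain ⟨t, ht, h1, -⟩ := N.unip fun _ => 1
  have h2 := h1 z hzV j
  rw [(MinSimple.VModule.mem_zc.1 hz).2.1 t ht, mul_inv_cancel_right] at h2
  have h3 := congrFun h2 0
  rw [ap_zero', up_00, up_01, one_mul, one_mul] at h3
  exact left_eq_add.1 h3

/-- elements of `Z#` have full support -/
theorem z_ne {z : G} (hz : z ∈ zc (S : Subgroup G)) (hz1 : z ≠ 1) (j : Fin k) : N.e z j ≠ 0 := by
  have hzV := zc_le_zl (S : Subgroup G) P hz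
  intro h0
  apply hz1
  apply eq_one N.toNatK hzV
  funext l
  obtain ⟨t, ht, h2⟩ := N.trans j l
  have h3 := h2 z hzV
  rw [(MinSimple.VModule.mem_zc.1 hz).2.1 t ht, mul_inv_cancel_right] at h3
  exact h3.2 h0

/-- Full-support vectors are in points of `U`. -/
theorem full (s : Sit S V F B P R p) {v : G} (hv : v ∈ zl (S : Subgroup G) P) (h : ∀ j, N.e v j ≠ 0) :
    ∃ g ∈ P, v ∈ MulAut.conj g • zc (S : Subgroup G) := by
  have hne := MinSimple.Basic.zc_ne_bot S.isPGroup' (s.ctx.sylow_ne_bot S)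
  obtain ⟨⟨z, hz⟩, hz1⟩ := ne_bot_iff_exists_ne_one.1 hne
  replace hz1 : z ≠ 1 := fun h1 => hz1 (Subtype.ext h1)
  have hzV := zc_le_zl (S : Subgroup G) P hz
  choose A hA using fun j => exists_ap (z_ne N hz hz1 j) (h j)
  obtain ⟨g, hg, hgA, -⟩ := N.lift A
  refine ⟨g, hg, ?_⟩
  have h1 : g * z * g⁻¹ = v := by
    apply inj N.toNatK ((amb s).conj_mem hg hzV) hv
    funext j
    rw [hgA z hzV j, hA]
  rw [← h1]
  exact mem_conj_of hz

/-- `F ∩ U` has no full-support vector. -/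
theorem nfull (s : Sit S V F B P R p) (hk : 0 < k) {f : G} (hf : f ∈ F) (hfU : f ∈ zl (S : Subgroup G) P) :
    ∃ j, N.e f j = 0 := by
  by_contra hall
  push Not at hall
  obtain ⟨g, hg, hfg⟩ := full N s hfU hall
  have h1 := s.spp g g 1 P hg rfl s.hP (one_mem P)
  rw [mul_one] at h1
  have h2 : f ∈ MulAut.conj g • zc (S : Subgroup G) ⊓ F := mem_inf.2 ⟨hfg, hf⟩
  rw [h1, mem_bot] at h2
  apply hall ⟨0, hk⟩
  rw [h2, e_one N.toNatK]
  rfl

end zz

/-- `B` acts on block `i` by `up ∘ β`. -/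
def Act {G : Type u} [Group G] {K : Type} [Field K] {S P U : Subgroup G} {k : ℕ} (N : NatKM K S P U ⊥ k)
    (B : Subgroup G) (i : Fin k) (β : G → K) : Prop :=
  ∀ b ∈ B, ∀ v, Blk N i v → Blk N i (b * v * b⁻¹) ∧ N.e (b * v * b⁻¹) i = ap (up (β b)) (N.e v i)

section blk

variable {G : Type u} [Group G] {K : Type} [Field K] {S P U : Subgroup G} {k : ℕ} {N : NatKM K S P U ⊥ k}
variable {B : Subgroup G} {i : Fin k} {β : G → K}

theorem blk_mul {v w : G} (hv : Blk N i v) (hw : Blk N i w) : Blk N i (v * w) :=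
  ⟨mul_mem hv.1 hw.1, fun j hj => by rw [N.mul v hv.1 w hw.1, Pi.add_apply, hv.2 j hj, hw.2 j hj, add_zero]⟩

theorem blk_inv {v : G} (hv : Blk N i v) : Blk N i v⁻¹ :=
  ⟨inv_mem hv.1, fun j hj => by rw [e_inv N.toNatK hv.1, Pi.neg_apply, hv.2 j hj, neg_zero]⟩

theorem blk_ext {v w : G} (hv : Blk N i v) (hw : Blk N i w) (h0 : N.e v i 0 = N.e w i 0)
    (h1 : N.e v i 1 = N.e w i 1) : v = w := by
  apply inj N.toNatK hv.1 hw.1
  funext j
  by_cases hj : j = i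
  · rw [hj]
    exact ext2 h0 h1
  · rw [hv.2 j hj, hw.2 j hj]

theorem blk_one : Blk N i 1 := ⟨one_mem _, fun j _ => by rw [e_one N.toNatK]; rfl⟩

theorem blk_eq_one {v : G} (hv : Blk N i v) (h0 : N.e v i 0 = 0) (h1 : N.e v i 1 = 0) : v = 1 :=
  blk_ext hv blk_one (by rw [h0, e_one N.toNatK]; rfl) (by rw [h1, e_one N.toNatK]; rfl)

variable [CharP K 2]

theorem Act.c_blk (h : Act N B i β) {b v : G} (hb : b ∈ B) (hv : Blk N i v) : Blk N i (c v b) := by
  have e1 : c v b = v * (b * v * b⁻¹)⁻¹ := by rw [c]; group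
  rw [e1]
  exact blk_mul hv (blk_inv (h b hb v hv).1)

theorem Act.c_zero (h : Act N B i β) {b v : G} (hb : b ∈ B) (hv : Blk N i v) :
    N.e (c v b) i 0 = β b * N.e v i 1 := by
  have e1 : c v b = v * (b * v * b⁻¹)⁻¹ := by rw [c]; group
  have h1 := h b hb v hv
  rw [e1, N.mul v hv.1 _ (inv_mem h1.1.1), e_inv N.toNatK h1.1.1, Pi.add_apply, Pi.neg_apply, h1.2, Pi.add_apply,
    Pi.neg_apply, ap_zero', up_00, up_01, one_mul, CharTwo.neg_eq, ← add_assoc, CharTwo.add_self_eq_zero, zero_add]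

theorem Act.c_one (h : Act N B i β) {b v : G} (hb : b ∈ B) (hv : Blk N i v) : N.e (c v b) i 1 = 0 := by
  have e1 : c v b = v * (b * v * b⁻¹)⁻¹ := by rw [c]; group
  have h1 := h b hb v hv
  rw [e1, N.mul v hv.1 _ (inv_mem h1.1.1), e_inv N.toNatK h1.1.1, Pi.add_apply, Pi.neg_apply, h1.2, Pi.add_apply,
    Pi.neg_apply, ap_one', up_10, up_11, zero_mul, zero_add, one_mul, add_neg_cancel]

/-- `[v, b] = 1` if `β b = 0` or `v` is in the line -/
theorem Act.c_eq_one (h : Act N B i β) {b v : G} (hb : b ∈ B) (hv : Blk N i v) (h0 : β b * N.e v i 1 = 0) :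
    c v b = 1 := blk_eq_one (h.c_blk hb hv) (by rw [h.c_zero hb hv, h0]) (h.c_one hb hv)

end blk

section pb

variable {G : Type u} [Group G] [Finite G] {S : Sylow 2 G} {V F B P R : Subgroup G} {p : G}
variable {K : Type} [Field K] [CharP K 2] {k : ℕ} {N : NatKM K (S : Subgroup G) P (zl (S : Subgroup G) P) ⊥ k}
variable {i : Fin k} {β : G → K}

/-- `R_i ≤ E` for a bad block -/
theorem rt_le (s : Sit S V F B P R p) (h : Act N B i β) {r : G} (hr : Rtv N i r) : r ∈ EE V F := by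
  by_contra hE
  obtain ⟨b, hb, hbF⟩ := exists_moved s (s.UV hr.1.1) hE
  apply hbF
  rw [h.c_eq_one hb hr.1 (by rw [hr.2, mul_zero])]
  exact one_mem F

theorem exists_beta (s : Sit S V F B P R p) (h : Act N B i β) (hbad : ∃ w, Blk N i w ∧ w ∉ EE V F) :
    ∃ b ∈ B, β b ≠ 0 := by
  obtain ⟨w, hw, hwE⟩ := hbad
  obtain ⟨b, hb, hbF⟩ := exists_moved s (s.UV hw.1) hwE
  refine ⟨b, hb, fun h0 => hbF ?_⟩
  rw [h.c_eq_one hb hw (by rw [h0, zero_mul])]
  exact one_mem F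

/-- `I ≤ R_i F` -/
theorem I_le (s : Sit S V F B P R p) (h : Act N B i β) (hbad : ∃ w, Blk N i w ∧ w ∉ EE V F) {a : G}
    (ha : a ∈ V ⊓ B) : ∃ r, Rtv N i r ∧ r⁻¹ * a ∈ F := by
  obtain ⟨w, hw, hwE⟩ := hbad
  obtain ⟨b, hb, hbF⟩ := (bh s).surj (s.UV hw.1) hwE ha
  exact ⟨c w b, ⟨h.c_blk hb hw, h.c_one hb hw⟩, hbF⟩

/-- **(*)** -/
theorem zF (s : Sit S V F B P R p) (h : Act N B i β) (hbad : ∃ w, Blk N i w ∧ w ∉ EE V F) {z : G}
    (hz : z ∈ zc (S : Subgroup G)) : ∃ r, Rtv N i r ∧ N.e r i = N.e z i ∧ r⁻¹ * z ∈ F := by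
  by_cases hz1 : z = 1
  · refine ⟨1, ⟨blk_one, by rw [e_one N.toNatK]; rfl⟩, by rw [hz1], ?_⟩
    rw [hz1, inv_one, one_mul]
    exact one_mem F
  · have hzU := zc_le_zl (S : Subgroup G) P hz
    have hzI : z ∈ V ⊓ B := mem_inf.2 ⟨s.UV hzU, s.RB (zc_le_zl (S : Subgroup G) R hz)⟩
    obtain ⟨r, hr, hrF⟩ := I_le s h hbad hzI
    refine ⟨r, hr, ?_, hrF⟩
    obtain ⟨j, hj⟩ := nfull N s i.pos hrF (mul_mem (inv_mem hr.1.1) hzU)
    rw [N.mul _ (inv_mem hr.1.1) _ hzU, e_inv N.toNatK hr.1.1, Pi.add_apply, Pi.neg_apply] at hj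
    by_cases hji : j = i
    · rw [hji, neg_add_eq_zero] at hj
      exact hj
    · rw [hr.1.2 j hji, neg_zero, zero_add] at hj
      exact absurd hj (z_ne N hz hz1 j)

/-- **(**)** `N_i ∩ F = 1` -/
theorem blkF (s : Sit S V F B P R p) (h : Act N B i β) (hbad : ∃ w, Blk N i w ∧ w ∉ EE V F) {v : G}
    (hv : Blk N i v) (hvF : v ∈ F) : v = 1 := by
  by_contra hv1
  have hne := MinSimple.Basic.zc_ne_bot S.isPGroup' (s.ctx.sylow_ne_bot S)
  obtain ⟨⟨z, hz⟩, hz1⟩ := ne_bot_iff_exists_ne_one.1 hne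
  replace hz1 : z ≠ 1 := fun h1 => hz1 (Subtype.ext h1)
  have hzU := zc_le_zl (S : Subgroup G) P hz
  obtain ⟨r, hr, hrz, hrF⟩ := zF s h hbad hz
  have hrU := mul_mem (inv_mem hr.1.1) hzU
  obtain ⟨j, hj⟩ := nfull N s i.pos (mul_mem hvF hrF) (mul_mem hv.1 hrU)
  rw [N.mul _ hv.1 _ hrU, N.mul _ (inv_mem hr.1.1) _ hzU, e_inv N.toNatK hr.1.1, Pi.add_apply, Pi.add_apply,
    Pi.neg_apply] at hj
  by_cases hji : j = i
  · rw [hji, hrz, neg_add_cancel, add_zero] at hj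
    exact hv1 (blk_eq_one hv (by rw [hj]; rfl) (by rw [hj]; rfl))
  · rw [hv.2 j hji, hr.1.2 j hji, neg_zero, zero_add, zero_add] at hj
    exact absurd hj (z_ne N hz hz1 j)

/-- `N_i ∩ E = R_i` -/
theorem blkE (s : Sit S V F B P R p) (h : Act N B i β) (hbad : ∃ w, Blk N i w ∧ w ∉ EE V F) {v : G}
    (hv : Blk N i v) : v ∈ EE V F ↔ N.e v i 1 = 0 := by
  refine ⟨fun hE => ?_, fun h1 => rt_le s h ⟨hv, h1⟩⟩
  obtain ⟨b, hb, hb0⟩ := exists_beta s h hbad
  have h1 : c v b = 1 := blkF s h hbad (h.c_blk hb hv) (s.flat.comm_EW hE (s.BW hb))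
  have h2 := h.c_zero hb hv
  rw [h1, e_one N.toNatK] at h2
  exact (mul_eq_zero.1 h2.symm).resolve_left hb0

/-- `C_B(N_i) = B ∩ N` -/
theorem βN (s : Sit S V F B P R p) (h : Act N B i β) (hbad : ∃ w, Blk N i w ∧ w ∉ EE V F) {b : G}
    (hb : b ∈ B) : β b = 0 ↔ b ∈ NN V F := by
  obtain ⟨w, hw, hwE⟩ := id hbad
  have hwV := s.UV hw.1
  rw [← s.flat.c_mem_F_iff hwV hwE (s.BW hb)]
  constructor
  · intro h0
    rw [h.c_eq_one hb hw (by rw [h0, zero_mul])]
    exact one_mem F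
  · intro hF
    have h1 : c w b = 1 := blkF s h hbad (h.c_blk hb hw) hF
    have h2 := h.c_zero hb hw
    rw [h1, e_one N.toNatK] at h2
    exact (mul_eq_zero.1 h2.symm).resolve_right fun h3 => hwE ((blkE s h hbad hw).2 h3)

/-- `R_i ∩ I = λ β(B)` for all `λ ≠ 0` -/
theorem exists_of_I (s : Sit S V F B P R p) (h : Act N B i β) (hbad : ∃ w, Blk N i w ∧ w ∉ EE V F) {l : K}
    (hl : l ≠ 0) {r : G} (hr : Rtv N i r) (hrB : r ∈ B) : ∃ b ∈ B, β b * l = N.e r i 0 := by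
  have hw := em_blk N i ![0, l]
  have hw1 : N.e (em N.toNatK i ![0, l]) i 1 = l := by rw [e_em_self]; rfl
  have hwE : em N.toNatK i ![0, l] ∉ EE V F := by
    rw [blkE s h hbad hw, hw1]
    exact hl
  obtain ⟨b, hb, hbF⟩ := (bh s).surj (s.UV hw.1) hwE (mem_inf.2 ⟨s.UV hr.1.1, hrB⟩)
  have h1 := blkF s h hbad (blk_mul (blk_inv (h.c_blk hb hw)) hr.1) hbF
  rw [inv_mul_eq_one] at h1
  refine ⟨b, hb, ?_⟩
  rw [← h1, h.c_zero hb hw, hw1]

theorem βsurj (s : Sit S V F B P R p) (h : Act N B i β) (hbad : ∃ w, Blk N i w ∧ w ∉ EE V F) (x : K) :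
    ∃ b ∈ B, β b = x := by
  by_cases hx : x = 0
  · exact ⟨1, one_mem B, by rw [hx, βN s h hbad (one_mem B)]; exact one_mem _⟩
  obtain ⟨b0, hb0, hb0'⟩ := exists_beta s h hbad
  -- `r = [w, b0]`, `w = (0, 1)`
  have hw := em_blk N i ![0, 1]
  have hw1 : N.e (em N.toNatK i ![0, 1]) i 1 = 1 := by rw [e_em_self]; rfl
  have hr : Rtv N i (c (em N.toNatK i ![0, 1]) b0) := ⟨h.c_blk hb0 hw, h.c_one hb0 hw⟩
  have hrB := ((bh s).c_memI (s.UV hw.1) hb0).2
  obtain ⟨b, hb, hbx⟩ := exists_of_I s h hbad (l := β b0 / x) (div_ne_zero hb0' hx) hr hrB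
  rw [h.c_zero hb0 hw, hw1, mul_one] at hbx
  refine ⟨b, hb, ?_⟩
  field_simp at hbx
  exact hbx

theorem rtB (s : Sit S V F B P R p) (h : Act N B i β) (hbad : ∃ w, Blk N i w ∧ w ∉ EE V F) {r : G}
    (hr : Rtv N i r) : r ∈ B := by
  obtain ⟨b, hb, hbx⟩ := βsurj s h hbad (N.e r i 0)
  have hw := em_blk N i ![0, 1]
  have hw1 : N.e (em N.toNatK i ![0, 1]) i 1 = 1 := by rw [e_em_self]; rfl
  have h1 : c (em N.toNatK i ![0, 1]) b = r := by
    refine blk_ext (h.c_blk hb hw) hr.1 ?_ ?_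
    · rw [h.c_zero hb hw, hw1, mul_one, hbx]
    · rw [h.c_one hb hw, hr.2]
  rw [← h1]
  exact ((bh s).c_memI (s.UV hw.1) hb).2

theorem βmul (h : Act N B i β) {b b' : G} (hb : b ∈ B) (hb' : b' ∈ B) :
    β (b * b') = β b + β b' := by
  have hw := em_blk N i ![0, 1]
  have h1 := h b' hb' _ hw
  have h2 := h b hb _ h1.1
  have h3 := h (b * b') (mul_mem hb hb') _ hw
  have e1 : b * (b' * em N.toNatK i ![0, 1] * b'⁻¹) * b⁻¹ = b * b' * em N.toNatK i ![0, 1] * (b * b')⁻¹ := by group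
  rw [e1] at h2
  have h4 := congrFun (h2.2.symm.trans h3.2) 0
  rw [ap_zero', ap_zero', h1.2, ap_zero', ap_one', e_em_self] at h4
  simp only [up_00, up_01, up_10, up_11] at h4
  simp at h4
  rw [← h4, add_comm]

theorem card_eq (s : Sit S V F B P R p) (h : Act N B i β) (hbad : ∃ w, Blk N i w ∧ w ∉ EE V F) :
    (NN V F).relIndex B = Nat.card K := by
  let φ : B →* Multiplicative K :=
    { toFun := fun b => Multiplicative.ofAdd (β b)
      map_one' := by
        have h1 : β 1 = 0 := by rw [βN s h hbad (one_mem B)]; exact one_mem _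
        simp [h1]
      map_mul' := fun b b' => by
        rw [coe_mul, βmul h b.2 b'.2]
        rfl }
  have hφ : Function.Surjective φ := by
    intro x
    obtain ⟨b, hb, hx⟩ := βsurj s h hbad (Multiplicative.toAdd x)
    exact ⟨⟨b, hb⟩, by show Multiplicative.ofAdd (β b) = x; rw [hx]; rfl⟩
  have hker : φ.ker = (NN V F).subgroupOf B := by
    ext b
    rw [MonoidHom.mem_ker, mem_subgroupOf, ← βN s h hbad b.2]
    exact Multiplicative.ofAdd.injective.eq_iff' rfl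
  rw [relIndex, ← hker, index_ker, MonoidHom.range_eq_top.2 hφ, card_top]
  exact Nat.card_congr Multiplicative.toAdd

end pb

/-- **P7b** -/
theorem p7b : StP7b.{u} := by
  intro G _ _ S V F B P R p s K _ _ _ k N hk hact
  -- the functions `β`
  have hact' : ∀ j : Fin k, (∃ w, Blk N j w ∧ w ∉ EE V F) → ∃ β : G → K, Act N B j β := by
    classical
    intro j hj
    choose x hx using hact j hj
    refine ⟨fun b => if hb : b ∈ B then x b hb else 0, fun b hb v hv => ?_⟩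
    have h1 := hx b hb v hv
    simp only [dif_pos hb]
    exact h1
  -- a bad block
  obtain ⟨i, hbad⟩ : ∃ i : Fin k, ∃ w, Blk N i w ∧ w ∉ EE V F := by
    by_contra hall
    push Not at hall
    exact s.bad fun v hv => mem_of_em N.toNatK hv fun j => hall j _ (em_blk N j _)
  obtain ⟨β, h⟩ := hact' i hbad
  refine ⟨i, β, { s with
    bad_i := hbad
    βmul := fun b hb b' hb' => βmul h hb hb'
    βsurj := βsurj s h hbad
    βN := fun b hb => βN s h hbad hb
    act := h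
    blkE := fun v hv => blkE s h hbad hv
    blkF := fun v hv hvF => blkF s h hbad hv hvF
    rtB := fun v hv => rtB s h hbad hv
    rtE := fun v hv h1 => mem_of_em N.toNatK hv fun j => ?_
    I := fun a ha => I_le s h hbad ha
    card := card_eq s h hbad
    zF := fun z hz => zF s h hbad hz
    nfull := fun f hf hfU => nfull N s hk hf hfU
    full := fun v hv hv1 => full N s hv hv1 }⟩
  by_cases hj : ∃ w, Blk N j w ∧ w ∉ EE V F
  · obtain ⟨γ, hγ⟩ := hact' j hj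
    exact rt_le s hγ ⟨em_blk N j _, by rw [e_em_self]; exact h1 j⟩
  · by_contra hE
    exact hj ⟨_, em_blk N j _, hE⟩

end Cfsg.Agent.Omega.NOThreeL.Low.PSeven

end

end
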